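import Cfsg.Agent.Spor.Chk

set_option autoImplicit false
set_option maxRecDepth 100000000
set_option Elab.async false

namespace Cfsg.Agent.Spor.LyUY

/-- relators of the centraliser part -/
def RK : List (List Nat) := [[10, 10, 10], [10, 2, 10, 2], [10, 4, 10, 4, 10, 4], [2, 4, 10, 0, 10, 4, 2, 0], [4, 10, 4, 2, 4, 2, 4, 2, 4, 10, 4, 2, 4, 2, 4, 2], [2, 6, 0, 10, 6, 11, 2, 0], [2, 0, 2, 0], [6, 2, 4, 2, 4, 2, 4, 2, 6, 4], [10, 4, 2, 4, 2, 4, 11, 6, 2, 4, 10, 4, 2, 0, 6], [0, 11, 6, 10, 6, 0, 6], [2, 10, 6, 0, 2, 6, 2, 0, 6, 2, 0, 6], [12, 12, 12], [0, 12, 0, 13], [2, 12, 2, 12], [4, 12, 4, 13], [6, 12, 6, 13], [10, 12, 11, 13]]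
def RM0 : List (List Nat) := [[8, 2, 8, 11, 2], [8, 4, 8, 4], [8, 10, 8, 10], [8, 12, 8, 13], [0, 8, 0, 8, 0, 8], [6, 8, 6, 8, 6, 8, 6, 8, 6, 8], [0, 6, 0, 8, 0, 6, 0, 8, 0, 6, 0, 8, 0, 6, 0, 8, 0, 6, 0, 8]]
def RM1 : List (List Nat) := [[8, 2, 8, 13, 11, 2], [8, 4, 8, 4], [8, 10, 8, 13, 10], [8, 12, 8, 13], [0, 8, 0, 8, 0, 8], [6, 8, 6, 8, 6, 8, 6, 8, 6, 8], [0, 6, 0, 8, 0, 6, 0, 8, 0, 6, 0, 8, 0, 6, 0, 8, 0, 6, 0, 8]]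
def RB : List (List Nat) := [[10, 10, 10], [10, 2, 10, 2], [10, 4, 10, 4, 10, 4], [2, 4, 10, 0, 10, 4, 2, 0], [4, 10, 4, 2, 4, 2, 4, 2, 4, 10, 4, 2, 4, 2, 4, 2], [2, 6, 0, 10, 6, 11, 2, 0], [2, 0, 2, 0], [6, 2, 4, 2, 4, 2, 4, 2, 6, 4], [10, 4, 2, 4, 2, 4, 11, 6, 2, 4, 10, 4, 2, 0, 6], [0, 11, 6, 10, 6, 0, 6], [2, 10, 6, 0, 2, 6, 2, 0, 6, 2, 0, 6], [8, 2, 8, 11, 2], [8, 4, 8, 4], [8, 10, 8, 10], [0, 8, 0, 8, 0, 8], [6, 8, 6, 8, 6, 8, 6, 8, 6, 8], [0, 6, 0, 8, 0, 6, 0, 8, 0, 6, 0, 8, 0, 6, 0, 8, 0, 6, 0, 8], [12]]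
def WD : List (List Nat) := [[6, 8, 6, 2, 4, 10, 6, 8, 6, 4, 2, 0, 6, 8, 6], [8, 6, 10, 0, 8, 6, 4, 2, 6, 8, 6, 2, 8, 6, 8, 0, 11, 6, 8], [6, 10, 6, 2, 4, 6, 2, 4, 11, 2, 4, 2, 4, 2, 4, 2], [4, 2, 6, 11, 4, 2, 6, 11, 4, 2, 4, 2, 4, 2, 4, 2], [2, 10, 4, 2, 4, 10], [2, 4, 6, 11, 4, 2, 6, 11], [0, 4, 2, 10, 4, 2, 10, 4, 2, 10, 4, 11], [4, 11, 6, 2, 4, 6, 2, 6], [4, 2, 4, 2, 4, 2, 4, 2], [0, 10], [12]]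
def WE : List (List Nat) := [[6, 8, 6, 2, 4, 10, 6, 8, 6, 4, 2, 0, 6, 8, 6], [8, 6, 10, 0, 8, 6, 4, 2, 6, 8, 6, 2, 8, 6, 8, 0, 11, 6, 8], [6, 10, 6, 2, 4, 6, 2, 4, 11, 2, 4, 2, 4, 2, 4, 2], [4, 2, 6, 11, 4, 2, 6, 11, 4, 2, 4, 2, 4, 2, 4, 2], [2, 10, 4, 2, 4, 10], [2, 4, 6, 11, 4, 2, 6, 11], [0, 4, 2, 10, 4, 2, 10, 4, 2, 10, 4, 11], [4, 11, 6, 2, 4, 6, 2, 6], [4, 2, 4, 2, 4, 2, 4, 2], [0, 10], [12], [14]]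
def RY0 : List (List Nat) := [[0, 0, 0], [2, 2, 2], [0, 2, 1, 3], [0, 4, 1, 5], [0, 6, 1, 7], [2, 4, 3, 5], [2, 6, 3, 7], [16, 0, 17, 0], [16, 2, 17, 2], [8, 0, 9, 3, 3], [8, 2, 9, 1], [10, 0, 11, 3, 1, 1], [10, 2, 11, 3, 1], [12, 0, 13, 3, 1], [12, 2, 13, 3, 3, 1], [15, 14, 15, 14], [0, 15, 0, 14, 1, 15, 1, 14, 5, 5], [2, 15, 2, 14, 3, 15, 3, 14], [0, 0, 15, 0, 0, 14, 1, 1, 15, 1, 1, 14, 5, 5], [0, 2, 15, 0, 2, 14, 3, 1, 15, 3, 1, 14], [2, 2, 15, 2, 2, 14, 3, 3, 15, 3, 3, 14], [0, 0, 2, 15, 0, 0, 2, 14, 3, 1, 1, 15, 3, 1, 1, 14, 5], [0, 2, 2, 15, 0, 2, 2, 14, 3, 3, 1, 15, 3, 3, 1, 14, 5], [0, 0, 2, 2, 15, 0, 0, 2, 2, 14, 3, 3, 1, 1, 15, 3, 3, 1, 1, 14]]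
def RY1 : List (List Nat) := [[0, 0, 0], [2, 2, 2], [0, 2, 1, 3], [0, 4, 1, 5], [0, 6, 1, 7], [2, 4, 3, 5], [2, 6, 3, 7], [16, 0, 17, 0], [16, 2, 17, 2], [8, 0, 9, 3, 3], [8, 2, 9, 1], [10, 0, 11, 3, 1, 1], [10, 2, 11, 3, 1], [12, 0, 13, 3, 1], [12, 2, 13, 3, 3, 1], [15, 14, 15, 14], [0, 15, 0, 14, 1, 15, 1, 14, 5, 5], [2, 15, 2, 14, 3, 15, 3, 14, 21], [0, 0, 15, 0, 0, 14, 1, 1, 15, 1, 1, 14, 5, 5], [0, 2, 15, 0, 2, 14, 3, 1, 15, 3, 1, 14, 21, 21], [2, 2, 15, 2, 2, 14, 3, 3, 15, 3, 3, 14, 21], [0, 0, 2, 15, 0, 0, 2, 14, 3, 1, 1, 15, 3, 1, 1, 14, 5], [0, 2, 2, 15, 0, 2, 2, 14, 3, 3, 1, 15, 3, 3, 1, 14, 5], [0, 0, 2, 2, 15, 0, 0, 2, 2, 14, 3, 3, 1, 1, 15, 3, 3, 1, 1, 14, 21, 21], [0, 15, 9, 0, 8, 14, 1, 15, 9, 1, 8,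 14, 5, 5, 21, 21], [2, 15, 13, 2, 12, 14, 3, 15, 13, 3, 12, 14, 5, 21, 21], [2, 2, 15, 13, 2, 2, 12, 14, 3, 3, 15, 13, 3, 3, 12, 14, 5, 21, 21], [19, 2, 18, 9, 1, 8], [19, 13, 9, 9, 2, 8, 8, 12, 18, 13, 9, 1, 8, 12], [19, 13, 9, 2, 8, 12, 18, 6, 13, 11, 9, 1, 8, 10, 12, 7]]
def LW : List (List Nat) := [[13], [4, 2], [11, 6, 4, 10], [0, 6, 2, 6, 0], [6, 2, 6, 11, 2, 0], [2, 4, 2, 4, 2, 4, 2, 10, 4, 2, 6, 4, 2, 6, 11, 6], [6, 8, 6, 0, 2, 4, 6, 8, 6, 11, 4, 2, 6, 8, 6]]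
def VW : List (List Nat) := [[6, 10, 6, 2, 4, 6, 2, 4, 11, 2, 4, 2, 4, 2, 4, 2], [0, 4, 2, 11, 4, 2, 4, 11], [2, 4, 11, 4, 6, 2, 4, 6, 11, 6, 2, 4, 13], [0, 2, 4, 11, 6, 2, 4, 6, 2, 4, 6, 11, 13], [4, 6, 10, 4, 2, 4, 6, 2, 6, 11, 4, 2, 4, 2, 4, 2, 4, 2, 13], [13], [8, 6, 10, 0, 8, 6, 4, 2, 6, 8, 6, 2, 8, 6, 8, 0, 11, 6, 8]]
def SBW : List (List Nat) := [[6, 10, 6, 2, 4, 6, 2, 4, 11, 2, 4, 2, 4, 2, 4, 2], [4, 2, 6, 11, 4, 2, 6, 11, 4, 2, 4, 2, 4, 2, 4, 2], [6, 8, 6, 2, 4, 10, 6, 8, 6, 4, 2, 0, 6, 8, 6], [8, 6, 10, 0, 8, 6, 4, 2, 6, 8, 6, 2, 8, 6, 8, 0, 11, 6, 8], [2, 10, 4, 2, 4, 10], [2, 4, 6, 11, 4, 2, 6, 11], [0, 4, 2, 10, 4, 2, 10, 4, 2, 10, 4, 11]]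

end Cfsg.Agent.Spor.LyUY
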